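import Groth.Agent.Tors9.Amitsur
import Mathlib.LinearAlgebra.TensorProduct.Pi
import Mathlib.LinearAlgebra.Matrix.NonsingularInverse
import Mathlib.LinearAlgebra.Matrix.ToLin
import Mathlib.LinearAlgebra.Dimension.Finrank

/-! Matrix cocycles of a faithfully flat algebra are coboundaries near every prime. -/

set_option autoImplicit false
set_option backward.isDefEq.respectTransparency false
set_option backward.isDefEq.respectTransparency.types false
universe u

open TensorProduct Matrix Groth.Agent.Tors9

noncomputable section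

namespace Groth.Agent.GLTors

variable {R B : Type u} [CommRing R] [CommRing B] [Algebra R B] {n : ℕ}

/-- The vectors of the descended module of a matrix cocycle. -/
def vecs (M : Matrix (Fin n) (Fin n) (B ⊗[R] B)) : Set (Fin n → B) :=
  {v | (fun i => iL R B (v i)) = M *ᵥ fun i => iR R B (v i)}

/-- The multiplication. -/
def diagMap : B ⊗[R] B →ₐ[R] B := Algebra.TensorProduct.productMap (AlgHom.id R B) (AlgHom.id R B)

theorem map_diag_cocycle {M : Matrix (Fin n) (Fin n) (B ⊗[R] B)} (hM : IsUnit M)
    (h : M.map (e₁₃ R B) = M.map (e₁₂ R B) * M.map (e₂₃ R B)) : M.map (diagMap (R := R)) = 1 := by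
  let δ₃ : B ⊗[R] (B ⊗[R] B) →ₐ[R] B := Algebra.TensorProduct.productMap (AlgHom.id R B) (diagMap (R := R))
  have ha : δ₃.comp (e₁₂ R B) = diagMap := by ext <;> simp [δ₃, diagMap]
  have hb : δ₃.comp (e₁₃ R B) = diagMap := by ext <;> simp [δ₃, diagMap]
  have hc : δ₃.comp (e₂₃ R B) = diagMap := by ext <;> simp [δ₃, diagMap]
  have h2 := congrArg (fun N : Matrix (Fin n) (Fin n) _ => N.map δ₃) h
  simp only [Matrix.map_mul, Matrix.map_map] at h2
  rw [← AlgHom.coe_comp, ← AlgHom.coe_comp, ← AlgHom.coe_comp, ha, hb, hc] at h2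
  exact ((hM.map (AlgHom.mapMatrix (diagMap (R := R)))).mul_eq_left).mp h2.symm

/-- The descended module spans. -/
theorem span_vecs_eq_top [Module.Flat R B] (M : Matrix (Fin n) (Fin n) (B ⊗[R] B)) (hM : IsUnit M)
    (h : M.map (e₁₃ R B) = M.map (e₁₂ R B) * M.map (e₂₃ R B)) : Submodule.span B (vecs M) = ⊤ := by
  obtain ⟨N, hMN, hNM⟩ : ∃ N, M * N = 1 ∧ N * M = 1 := ⟨_, hM.unit.mul_inv, hM.unit.inv_mul⟩
  let D : (Fin n → B) →ₗ[R] (Fin n → B ⊗[R] B) :=
    { toFun := fun v i => iL R B (v i) - (M *ᵥ fun j => iR R B (v j)) i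
      map_add' := fun v w => by
        funext i
        have e : (fun j => iR R B ((v + w) j)) = (fun j => iR R B (v j)) + fun j => iR R B (w j) :=
          funext fun j => map_add _ _ _
        simp only [Pi.add_apply] at e ⊢
        rw [e, Matrix.mulVec_add, map_add, Pi.add_apply]
        abel
      map_smul' := fun r v => by
        funext i
        have e : (fun j => iR R B ((r • v) j)) = r • fun j => iR R B (v j) :=
          funext fun j => map_smul _ _ _
        simp only [Pi.smul_apply, RingHom.id_apply] at e ⊢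
        rw [e, Matrix.mulVec_smul, map_smul, Pi.smul_apply, smul_sub] }
  have hmem : ∀ v ∈ LinearMap.ker D, v ∈ vecs M := fun v hv => funext fun i => sub_eq_zero.mp (congrFun hv i)
  let P := TensorProduct.piRight R R B (fun _ : Fin n => B)
  let P' := TensorProduct.piRight R R B (fun _ : Fin n => B ⊗[R] B)
  have hlT : ∀ z i, P' (D.lTensor B z) i =
      e₁₂ R B (P z i) - (M.map (e₂₃ R B) *ᵥ fun j => e₁₃ R B (P z j)) i := by
    intro z i
    induction z using TensorProduct.induction_on with
    | zero => simp [Matrix.mulVec, dotProduct]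
    | add a b ha hb =>
      simp only [Matrix.mulVec, dotProduct] at ha hb ⊢
      simp only [map_add, Pi.add_apply, mul_add, Finset.sum_add_distrib, ha, hb]
      ring
    | tmul β v =>
      simp only [P, P', LinearMap.lTensor_tmul, TensorProduct.piRight_apply, TensorProduct.piRightHom_tmul,
        Matrix.mulVec, dotProduct, Matrix.map_apply]
      rw [e₂₃_eq]
      simp [D, Matrix.mulVec, dotProduct, TensorProduct.tmul_sub, TensorProduct.tmul_sum]
  have hN : N.map (diagMap (R := R)) = 1 := by
    have h1 := congrArg (fun A : Matrix (Fin n) (Fin n) _ => A.map (diagMap (R := R))) hMN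
    simp only [Matrix.map_mul, Matrix.map_one _ (map_zero _) (map_one _)] at h1
    rwa [map_diag_cocycle hM h, Matrix.one_mul] at h1
  have hcol : ∀ c, (Pi.single c 1 : Fin n → B) ∈ Submodule.span B (vecs M) := by
    intro c
    let x : B ⊗[R] (Fin n → B) := P.symm fun i => N i c
    have hx : D.lTensor B x = 0 := by
      refine P'.injective (funext fun i => ?_)
      rw [map_zero, Pi.zero_apply, hlT, sub_eq_zero]
      simp only [x, LinearEquiv.apply_symm_apply]
      have h' : N.map (e₁₂ R B) = M.map (e₂₃ R B) * N.map (e₁₃ R B) := by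
        have h12 : N.map (e₁₂ R B) * M.map (e₁₂ R B) = 1 := by
          rw [← Matrix.map_mul, hNM, Matrix.map_one _ (map_zero _) (map_one _)]
        have h13 : M.map (e₁₃ R B) * N.map (e₁₃ R B) = 1 := by
          rw [← Matrix.map_mul, hMN, Matrix.map_one _ (map_zero _) (map_one _)]
        calc N.map (e₁₂ R B) = N.map (e₁₂ R B) * (M.map (e₁₃ R B) * N.map (e₁₃ R B)) := by
              rw [h13, Matrix.mul_one]
          _ = _ := by
              rw [h, Matrix.mul_assoc, ← Matrix.mul_assoc (N.map (e₁₂ R B)), h12, Matrix.one_mul]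
      exact (congrFun (congrFun h' i) c).trans rfl
    obtain ⟨y, hy⟩ := (Module.Flat.lTensor_exact B (LinearMap.exact_subtype_ker_map D) x).mp hx
    have key : ∀ t : B ⊗[R] LinearMap.ker D,
        (fun i => diagMap (P ((LinearMap.ker D).subtype.lTensor B t) i)) ∈ Submodule.span B (vecs M) := by
      intro t
      induction t using TensorProduct.induction_on with
      | zero =>
        simp only [map_zero, Pi.zero_apply]
        exact zero_mem _
      | add a b ha hb =>
        simp only [map_add, Pi.add_apply]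
        exact add_mem ha hb
      | tmul β v =>
        convert Submodule.smul_mem _ β (Submodule.subset_span (R := B) (hmem _ v.2)) using 1
        funext i
        simp [P, diagMap]
    convert key y using 1
    rw [hy]
    funext i
    simp only [x, LinearEquiv.apply_symm_apply]
    have e := congrFun (congrFun hN i) c
    rw [Matrix.map_apply] at e
    rw [e, Matrix.one_apply, Pi.single_apply]
  rw [eq_top_iff]
  rintro w -
  rw [← Finset.univ_sum_single w]
  refine Submodule.sum_mem _ fun i _ => ?_
  rw [show (Pi.single i (w i) : Fin n → B) = w i • (Pi.single i 1 : Fin n → B) by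
    rw [← Pi.single_smul, smul_eq_mul, mul_one]]
  exact Submodule.smul_mem _ _ (hcol i)

/-- Near every prime a matrix cocycle is a coboundary. -/
theorem exists_frame [Module.FaithfullyFlat R B] (M : Matrix (Fin n) (Fin n) (B ⊗[R] B)) (hM : IsUnit M)
    (h : M.map (e₁₃ R B) = M.map (e₁₂ R B) * M.map (e₂₃ R B)) (p : PrimeSpectrum R) :
    ∃ r ∉ p.asIdeal, ∃ V : Matrix (Fin n) (Fin n) B,
      V.map (iL R B) = M * V.map (iR R B) ∧ ∃ b' : B, V.det * b' = algebraMap R B r := by
  classical
  obtain ⟨P, hP⟩ := PrimeSpectrum.comap_surjective_of_faithfullyFlat (A := R) (B := B) p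
  -- choose `n` vectors independent at `P`
  let K := P.asIdeal.ResidueField
  let q : (Fin n → B) →ₗ[B] (Fin n → K) := (Algebra.linearMap B K).compLeft (Fin n)
  have hspan : Submodule.span K (q '' vecs M) = ⊤ := by
    rw [eq_top_iff, ← (Pi.basisFun K (Fin n)).span_eq, Submodule.span_le]
    rintro _ ⟨i, rfl⟩
    have h1 : q (Pi.single i 1) ∈ Submodule.span B (q '' vecs M) := by
      rw [← Submodule.map_span, span_vecs_eq_top M hM h]
      exact ⟨_, trivial, rfl⟩
    have h2 : q (Pi.single i 1) = Pi.basisFun K (Fin n) i := by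
      funext j
      simp [q, Pi.single_apply, apply_ite]
    rw [← h2]
    exact Submodule.span_le_restrictScalars B K _ h1
  obtain ⟨S, hS, hSspan, hSli⟩ := exists_linearIndependent K (q '' vecs M)
  rw [hspan] at hSspan
  let bas := Module.Basis.mk hSli (by rw [Subtype.range_coe]; exact hSspan.ge)
  haveI : Finite S := Module.Finite.finite_basis bas
  haveI := Fintype.ofFinite S
  have hcard : Fintype.card S = n := by
    rw [← Module.finrank_eq_card_basis bas, Module.finrank_fin_fun]
  let e : Fin n ≃ S := (Fintype.equivFinOfCardEq hcard).symm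
  choose v hv hvS using fun s : S => hS s.2
  let V : Matrix (Fin n) (Fin n) B := Matrix.of fun i j => v (e j) i
  have hV : V.map (iL R B) = M * V.map (iR R B) := by
    ext i j
    exact congrFun (hv (e j)) i
  have hdet : V.det ∉ P.asIdeal := by
    intro hd
    have hd0 : (V.map (algebraMap B K)).det = 0 := by
      rw [← RingHom.mapMatrix_apply, ← RingHom.map_det]
      exact (Ideal.algebraMap_residueField_eq_zero).mpr hd
    have hli : LinearIndependent K (V.map (algebraMap B K)).col := by
      have e1 : (V.map (algebraMap B K)).col = (Subtype.val : S → _) ∘ e := by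
        funext j i
        exact congrFun (hvS (e j)) i
      rw [e1]
      exact hSli.comp e e.injective
    rw [Matrix.linearIndependent_cols_iff_isUnit, Matrix.isUnit_iff_isUnit_det, hd0] at hli
    exact not_isUnit_zero hli
  -- the determinant is a line of the determinant cocycle
  have hu : IsUnit M.det := (Matrix.isUnit_iff_isUnit_det M).mp hM
  have hline : iL R B V.det = M.det * iR R B V.det := by
    rw [AlgHom.map_det, AlgHom.map_det, AlgHom.mapMatrix_apply, AlgHom.mapMatrix_apply, hV, Matrix.det_mul]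
  have hc : e₁₃ R B (hu.unit : B ⊗[R] B) = e₁₂ R B (hu.unit : B ⊗[R] B) * e₂₃ R B (hu.unit : B ⊗[R] B) := by
    simp only [IsUnit.unit_spec, AlgHom.map_det, AlgHom.mapMatrix_apply, h, Matrix.det_mul]
  have h' : e₁₃ R B ((hu.unit⁻¹ : (B ⊗[R] B)ˣ) : B ⊗[R] B) =
      e₁₂ R B ((hu.unit⁻¹ : (B ⊗[R] B)ˣ) : B ⊗[R] B) * e₂₃ R B ((hu.unit⁻¹ : (B ⊗[R] B)ˣ) : B ⊗[R] B) := by
    refine left_inv_eq_right_inv (a := e₁₃ R B (hu.unit : B ⊗[R] B)) ?_ ?_
    · rw [← map_mul, Units.inv_mul, map_one]
    · rw [hc, mul_mul_mul_comm, ← map_mul, ← map_mul, Units.mul_inv, map_one, map_one, mul_one]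
  obtain ⟨b', hb', hbP'⟩ : ∃ b ∈ line ((hu.unit⁻¹ : (B ⊗[R] B)ˣ) : B ⊗[R] B), b ∉ P.asIdeal := by
    by_contra hn
    push Not at hn
    exact P.2.ne_top (top_le_iff.mp ((span_line_eq_top hu.unit⁻¹ h').ge.trans (Ideal.span_le.mpr hn)))
  have hprod : iL R B (V.det * b') = iR R B (V.det * b') := by
    rw [map_mul, map_mul, hb', hline, mul_mul_mul_comm, hu.mul_val_inv, one_mul]
  obtain ⟨r, hr⟩ : V.det * b' ∈ LinearMap.range (Algebra.linearMap R B) := by
    refine DescLib.mem_range_of_one_tmul_mem (A := B) _ _ ⟨(V.det * b') ⊗ₜ[R] (1 : R), ?_⟩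
    rw [LinearMap.lTensor_tmul, Algebra.linearMap_apply, map_one]
    exact hprod
  refine ⟨r, fun hrp => ?_, V, hV, b', hr.symm⟩
  have : algebraMap R B r ∈ P.asIdeal := by rw [← hP] at hrp; exact hrp
  rcases P.2.mem_or_mem (show V.det * b' ∈ P.asIdeal from hr ▸ this) with h | h
  · exact hdet h
  · exact hbP' h

end Groth.Agent.GLTors
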