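import Groth.Agent.GLTors.Cocycle
import Groth.Agent.GrpSchLib.GLnHom
import Groth.Agent.SchTorsor.Props
import Groth.Agent.Tors9.Descent
import Mathlib.AlgebraicGeometry.Sites.Fpqc
import Mathlib.AlgebraicGeometry.Pullbacks

/-! Torsors under the general linear group are Zariski locally trivial. -/

set_option autoImplicit false
set_option linter.style.haveILetI false
set_option backward.isDefEq.respectTransparency false
set_option backward.isDefEq.respectTransparency.types false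
universe u

open CategoryTheory CategoryTheory.Limits MonoidalCategory CartesianMonoidalCategory MonObj GrpObj AlgebraicGeometry
open scoped TensorProduct
open Groth.Agent.GrpSchLib Groth.Agent.GrpSchLib.Kunneth Groth.Agent.Tors9

noncomputable section

namespace Groth.Agent.GLTors

variable {k : Type u} [Field k] {n : ℕ}

theorem exists_matPt {T : Over (Spec (CommRingCat.of k))} (g : T ⟶ FrB.GLn n (Spec (CommRingCat.of k))) :
    ∃ (M : Matrix (Fin n) (Fin n) (Fn T)) (hM : IsUnit M), matPt M hM = g := by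
  let σ0 := IsTerminal.from specULiftZIsTerminal (Spec (CommRingCat.of k))
  let f : T.left ⟶ Spec (CommRingCat.of (CoordGrp.GLn n (ULift.{u} ℤ))) :=
    (((Over.mapPullbackAdj σ0).homEquiv _ _).symm g).left
  let ψ : CommRingCat.of (CoordGrp.GLn n (ULift.{u} ℤ)) ⟶ Γ(T.left, ⊤) :=
    (Scheme.ΓSpecIso _).inv ≫ f.appTop
  let φ : CoordGrp.GLn n (ULift.{u} ℤ) →ₐ[ULift.{u} ℤ] Fn T := AlgHom.mk ψ.hom (fun c => by
    obtain ⟨z⟩ := c
    exact (DFunLike.congr_fun (RingHom.ext_int (ψ.hom.comp ((algebraMap (ULift.{u} ℤ) _).comp ULift.ringEquiv.symm.toRingHom))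
      ((algebraMap (ULift.{u} ℤ) (Fn T)).comp ULift.ringEquiv.symm.toRingHom)) z :))
  have hφ : toGL φ = g := by
    rw [toGL, ← ((Over.mapPullbackAdj σ0).homEquiv _ _).eq_symm_apply]
    refine Over.OverMorphism.ext ?_
    show T.left.toSpecΓ ≫ Spec.map ψ = f
    rw [Spec.map_comp, ← Scheme.toSpecΓ_naturality_assoc, toSpecΓ_SpecMap_ΓSpecIso_inv]
    exact Category.comp_id _
  have hu : IsUnit (GLnDiag.mat φ) := (Matrix.isUnit_iff_isUnit_det _).mpr
    (IsUnit.of_mul_eq_one _ (GLnDiag.det_mat φ))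
  refine ⟨GLnDiag.mat φ, hu, ?_⟩
  rw [matPt, ← hφ]
  exact congrArg toGL (GLnDiag.ext_mat (mat_matHom _ _))

variable {X Y : Over (Spec (CommRingCat.of k))} {R : Type u} [CommRing R] (j : Spec (CommRingCat.of R) ⟶ Y.left)
variable {B C C' : Type u} [CommRing B] [Algebra R B] [CommRing C] [Algebra R C] [CommRing C'] [Algebra R C']

/-- The spectrum of an algebra over an affine piece. -/
abbrev Tp (C : Type u) [CommRing C] [Algebra R C] : Over (Spec (CommRingCat.of k)) :=
  Over.mk ((Spec.map (CommRingCat.ofHom (algebraMap R C)) ≫ j) ≫ Y.hom)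

def tm (χ : C →ₐ[R] C') : Tp j C' ⟶ Tp j C :=
  Over.homMk (Spec.map (CommRingCat.ofHom χ.toRingHom)) (by
    change Spec.map _ ≫ (Spec.map _ ≫ j) ≫ Y.hom = (Spec.map _ ≫ j) ≫ Y.hom
    rw [← Category.assoc, ← Category.assoc (Spec.map _) (Spec.map _), ← Spec.map_comp, ← CommRingCat.ofHom_comp]
    congr 4
    exact RingHom.ext χ.commutes)

theorem tm_left (χ : C →ₐ[R] C') : (tm j χ).left = Spec.map (CommRingCat.ofHom χ.toRingHom) := rfl

theorem tm_comp {C'' : Type u} [CommRing C''] [Algebra R C''] (χ : C →ₐ[R] C') (χ' : C' →ₐ[R] C'') :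
    tm j (χ'.comp χ) = tm j χ' ≫ tm j χ := by
  refine Over.OverMorphism.ext ?_
  change Spec.map _ = Spec.map _ ≫ Spec.map _
  rw [← Spec.map_comp]
  rfl

def toY (C : Type u) [CommRing C] [Algebra R C] : Tp j C ⟶ Y :=
  Over.homMk (Spec.map (CommRingCat.ofHom (algebraMap R C)) ≫ j)

theorem tm_toY (χ : C →ₐ[R] C') : tm j χ ≫ toY j C = toY j C' := by
  refine Over.OverMorphism.ext ?_
  change Spec.map _ ≫ Spec.map _ ≫ j = Spec.map _ ≫ j
  rw [← Category.assoc, ← Spec.map_comp, ← CommRingCat.ofHom_comp]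
  congr 3
  exact RingHom.ext χ.commutes

theorem ev_tm (χ : C →ₐ[R] C') (x : Fn (Tp j C)) :
    (Scheme.ΓSpecIso (CommRingCat.of C')).hom (ev (tm j χ) x) = χ ((Scheme.ΓSpecIso (CommRingCat.of C)).hom x) :=
  congrArg (fun f => (ConcreteCategory.hom f) x) (Scheme.ΓSpecIso_naturality (CommRingCat.ofHom χ.toRingHom))

def gam (C : Type u) [CommRing C] [Algebra R C] : Fn (Tp j C) ≃+* C :=
  (Scheme.ΓSpecIso (CommRingCat.of C)).commRingCatIsoToRingEquiv

def valG (g : Tp j C ⟶ FrB.GLn n (Spec (CommRingCat.of k))) : Matrix (Fin n) (Fin n) C :=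
  (exists_matPt g).choose.map (gam j C)

theorem valG_matPt (M : Matrix (Fin n) (Fin n) (Fn (Tp j C))) (hM : IsUnit M) :
    valG j (matPt M hM) = M.map (gam j C) :=
  congrArg (fun N : Matrix (Fin n) (Fin n) _ => N.map (gam j C))
    (matPt_injective (exists_matPt (matPt M hM)).choose_spec.choose_spec)

theorem valG_inj {g g' : Tp j C ⟶ FrB.GLn n (Spec (CommRingCat.of k))} (h : valG j g = valG j g') : g = g' := by
  obtain ⟨M, hM, rfl⟩ := exists_matPt g
  obtain ⟨M', hM', rfl⟩ := exists_matPt g'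
  rw [valG_matPt, valG_matPt] at h
  exact matPt_congr (Matrix.map_injective (gam j C).injective h)

theorem valG_mul (g g' : Tp j C ⟶ FrB.GLn n (Spec (CommRingCat.of k))) :
    valG j (g * g') = valG j g * valG j g' := by
  obtain ⟨M, hM, rfl⟩ := exists_matPt g
  obtain ⟨M', hM', rfl⟩ := exists_matPt g'
  rw [matPt_mul, valG_matPt, valG_matPt, valG_matPt, Matrix.map_mul]

theorem valG_comp (χ : C →ₐ[R] C') (g : Tp j C ⟶ FrB.GLn n (Spec (CommRingCat.of k))) :
    valG j (tm j χ ≫ g) = (valG j g).map χ := by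
  obtain ⟨M, hM, rfl⟩ := exists_matPt g
  rw [comp_matPt, valG_matPt, valG_matPt, Matrix.map_map, Matrix.map_map]
  ext i l
  exact ev_tm j χ (M i l)

theorem isUnit_valG (g : Tp j C ⟶ FrB.GLn n (Spec (CommRingCat.of k))) : IsUnit (valG j g) := by
  obtain ⟨M, hM, rfl⟩ := exists_matPt g
  rw [valG_matPt]
  exact hM.map (RingHom.mapMatrix (gam j C).toRingHom)

theorem exists_valG (V : Matrix (Fin n) (Fin n) C) (hV : IsUnit V) :
    ∃ g : Tp j C ⟶ FrB.GLn n (Spec (CommRingCat.of k)), valG j g = V := by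
  refine ⟨matPt (V.map (gam j C).symm) (hV.map (RingHom.mapMatrix (gam j C).symm.toRingHom)), ?_⟩
  rw [valG_matPt, Matrix.map_map]
  ext i l
  simp

variable (a : AlgGrp.Action (FrB.GLn n (Spec (CommRingCat.of k))) X) (φ : X ⟶ Y)
  (hcart : IsPullback a.act (snd (FrB.GLn n (Spec (CommRingCat.of k))) X) φ φ)

include hcart in
theorem exists_div {T : Over (Spec (CommRingCat.of k))} (x y : T ⟶ X) (h : x ≫ φ = y ≫ φ) :
    ∃ g : T ⟶ FrB.GLn n (Spec (CommRingCat.of k)), lift g y ≫ a.act = x := by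
  refine ⟨hcart.lift x y h ≫ fst _ _, ?_⟩
  rw [show lift (hcart.lift x y h ≫ fst _ _) y = hcart.lift x y h by
    refine CartesianMonoidalCategory.hom_ext _ _ (lift_fst _ _) ?_
    rw [lift_snd, hcart.lift_snd], hcart.lift_fst]

include hcart in
theorem act_free {T : Over (Spec (CommRingCat.of k))} {g g' : T ⟶ FrB.GLn n (Spec (CommRingCat.of k))} {y : T ⟶ X}
    (h : lift g y ≫ a.act = lift g' y ≫ a.act) : g = g' := by
  have := hcart.hom_ext h (by simp)
  simpa using congrArg (· ≫ fst _ _) this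

theorem inv_aux {G : Type*} [Group G] {x y z : G} (h : x * y = z) : z⁻¹ * x = y⁻¹ := by
  rw [← h, _root_.mul_inv_rev, inv_mul_cancel_right]

/-- The twist of a point by the inverse of a group element. -/
def twist {S : Scheme.{u}} {G X T : Over S} [GrpObj G] (a : AlgGrp.Action G X) (f : T ⟶ G) (y : T ⟶ X) : T ⟶ X :=
  lift f⁻¹ y ≫ a.act

theorem twist_snd {S : Scheme.{u}} {G X Y T : Over S} [GrpObj G] (a : AlgGrp.Action G X) (f : T ⟶ G) (y : T ⟶ X)
    (φ : X ⟶ Y) (h : a.act ≫ φ = snd G X ≫ φ) : twist a f y ≫ φ = y ≫ φ := by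
  rw [twist, Category.assoc, h, lift_snd_assoc]

theorem twist_eq {S : Scheme.{u}} {G X T T' : Over S} [GrpObj G] (a : AlgGrp.Action G X) (f : T ⟶ G) (y : T ⟶ X)
    (u₁ u₂ : T' ⟶ T) (g : T' ⟶ G) (hy : lift g (u₂ ≫ y) ≫ a.act = u₁ ≫ y) (hg : g * (u₂ ≫ f) = u₁ ≫ f) :
    u₁ ≫ twist a f y = u₂ ≫ twist a f y := by
  rw [twist, comp_lift_assoc, comp_lift_assoc, ← hy, ← SchTorsor.act_assoc, GrpObj.comp_inv, GrpObj.comp_inv,
    inv_aux hg]

/-- Descent of an invariant point to a section. -/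
theorem hasSection_of_invariant (R' : Type u) [CommRing R'] [Algebra R R'] {B' : Type u} [CommRing B'] [Algebra R B']
    [Algebra R' B'] [IsScalarTower R R' B'] [Module.FaithfullyFlat R' B'] (s : Tp j B' ⟶ X) (hsφ : s ≫ φ = toY j B')
    (hs : ∀ {D : Type u} [CommRing D] [Algebra R D] (φ' ψ' : B' →ₐ[R] D), tm j φ' ≫ s = tm j ψ' ≫ s) :
    NonAbH1.HasSectionOver (Over.mk φ.left : Over Y.left)
      (Spec.map (CommRingCat.ofHom (algebraMap R R')) ≫ j) := by
  let p' : Spec (CommRingCat.of B') ⟶ Spec (CommRingCat.of R') := Spec.map (CommRingCat.ofHom (algebraMap R' B'))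
  have hff : (algebraMap R' B').FaithfullyFlat := RingHom.faithfullyFlat_algebraMap_iff.mpr inferInstance
  haveI : Flat p' := by rw [HasRingHomProperty.Spec_iff (P := @Flat)]; exact hff.flat
  haveI : Surjective p' := ⟨(RingHom.FaithfullyFlat.iff_flat_and_comap_surjective.mp hff).2⟩
  let sl : Spec (CommRingCat.of B') ⟶ X.left := s.left
  have h3 := congrArg CommaMorphism.left (hs (D := B' ⊗[R'] B')
    ((iL R' B').restrictScalars R) ((iR R' B').restrictScalars R))
  have hco : ∀ {Z : Scheme.{u}} (g₁ g₂ : Z ⟶ Spec (CommRingCat.of B')), g₁ ≫ p' = g₂ ≫ p' → g₁ ≫ sl = g₂ ≫ sl := by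
    intro Z g₁ g₂ hg'
    let l : Z ⟶ Spec (CommRingCat.of (B' ⊗[R'] B')) := pullback.lift g₁ g₂ hg' ≫ (pullbackSpecIso R' B' B').hom
    have h1 : l ≫ Spec.map (CommRingCat.ofHom (iL R' B').toRingHom) = g₁ := by
      rw [Category.assoc]
      refine (_ ≫= ?_).trans (pullback.lift_fst g₁ g₂ hg')
      exact (Iso.eq_inv_comp _).mp (pullbackSpecIso_inv_fst R' B' B').symm
    have h2 : l ≫ Spec.map (CommRingCat.ofHom (iR R' B').toRingHom) = g₂ := by
      rw [Category.assoc]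
      refine (_ ≫= ?_).trans (pullback.lift_snd g₁ g₂ hg')
      exact (Iso.eq_inv_comp _).mp (pullbackSpecIso_inv_snd R' B' B').symm
    calc g₁ ≫ sl = l ≫ Spec.map (CommRingCat.ofHom (iL R' B').toRingHom) ≫ sl := by rw [← Category.assoc, h1]
      _ = l ≫ Spec.map (CommRingCat.ofHom (iR R' B').toRingHom) ≫ sl := l ≫= h3
      _ = g₂ ≫ sl := by rw [← Category.assoc, h2]
  refine ⟨EffectiveEpi.desc p' sl hco, ?_⟩
  rw [← cancel_epi p', ← Category.assoc, EffectiveEpi.fac]
  refine (congrArg CommaMorphism.left hsφ).trans ?_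
  show Spec.map _ ≫ j = p' ≫ Spec.map _ ≫ j
  rw [← Category.assoc, ← Spec.map_comp, ← CommRingCat.ofHom_comp, ← IsScalarTower.algebraMap_eq]

include hcart in
theorem hasSection_near [Module.FaithfullyFlat R B] (x₀ : Tp j B ⟶ X) (hx₀ : x₀ ≫ φ = toY j B)
    (p : PrimeSpectrum R) :
    ∃ r ∉ p.asIdeal, NonAbH1.HasSectionOver (Over.mk φ.left : Over Y.left)
      (Spec.map (CommRingCat.ofHom (algebraMap R (Localization.Away r))) ≫ j) := by
  have hw : ∀ {D : Type u} [CommRing D] [Algebra R D] (φ' ψ' : B →ₐ[R] D),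
      (tm j φ' ≫ x₀) ≫ φ = (tm j ψ' ≫ x₀) ≫ φ := fun φ' ψ' => by
    rw [Category.assoc, Category.assoc, hx₀, tm_toY, tm_toY]
  obtain ⟨g, hg⟩ := exists_div a φ hcart _ _ (hw (iL R B) (iR R B))
  have hgχ : ∀ {D : Type u} [CommRing D] [Algebra R D] (χ : B ⊗[R] B →ₐ[R] D),
      lift (tm j χ ≫ g) (tm j (χ.comp (iR R B)) ≫ x₀) ≫ a.act = tm j (χ.comp (iL R B)) ≫ x₀ := fun χ => by
    rw [tm_comp, tm_comp, Category.assoc, Category.assoc, ← comp_lift, Category.assoc, hg]
  let M := valG j g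
  have hc : M.map (e₁₃ R B) = M.map (e₁₂ R B) * M.map (e₂₃ R B) := by
    simp only [M, ← valG_comp, ← valG_mul]
    refine congrArg (valG j) (act_free a φ hcart (y := tm j (i₃ R B) ≫ x₀) ?_)
    have h13 := hgχ (e₁₃ R B)
    have h12 := hgχ (e₁₂ R B)
    have h23 := hgχ (e₂₃ R B)
    simp only [e₁₂, e₁₃, e₂₃, iL, iR, Algebra.TensorProduct.productMap_left,
      Algebra.TensorProduct.productMap_right] at h12 h13 h23 ⊢
    rw [h13, SchTorsor.act_assoc, h23, h12]
  obtain ⟨r, hr, V, hV, b', hb'⟩ := exists_frame M (isUnit_valG j g) hc p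
  refine ⟨r, hr, ?_⟩
  let R' := Localization.Away r
  let B' := R' ⊗[R] B
  let q : B →ₐ[R] B' := Algebra.TensorProduct.includeRight
  have hu : IsUnit (V.map q) := by
    rw [Matrix.isUnit_iff_isUnit_det, ← AlgHom.mapMatrix_apply, ← AlgHom.map_det]
    refine isUnit_of_mul_isUnit_left (y := q b') ?_
    rw [← map_mul, hb', AlgHom.commutes, IsScalarTower.algebraMap_apply R R' B']
    exact (IsLocalization.Away.algebraMap_isUnit r).map _
  obtain ⟨f, hf⟩ := exists_valG (Y := Y) j _ hu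
  let s : Tp j B' ⟶ X := twist a f (tm j q ≫ x₀)
  have hsφ : s ≫ φ = toY j B' := by
    simp only [s]
    rw [twist_snd a f _ φ hcart.w, Category.assoc, hx₀, tm_toY]
  refine hasSection_of_invariant (R := R) j φ R' s hsφ fun {D} _ _ φ' ψ' => ?_
  let ρ : B ⊗[R] B →ₐ[R] D := Algebra.TensorProduct.productMap (φ'.comp q) (ψ'.comp q)
  have hL : ρ.comp (iL R B) = φ'.comp q := Algebra.TensorProduct.productMap_left _ _
  have hR : ρ.comp (iR R B) = ψ'.comp q := Algebra.TensorProduct.productMap_right _ _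
  have key : (tm j ρ ≫ g) * (tm j ψ' ≫ f) = tm j φ' ≫ f := by
    refine valG_inj j ?_
    rw [valG_mul, valG_comp, valG_comp, valG_comp, hf, Matrix.map_map, Matrix.map_map, ← AlgHom.coe_comp,
      ← AlgHom.coe_comp, ← hL, ← hR, AlgHom.coe_comp, AlgHom.coe_comp, ← Matrix.map_map, ← Matrix.map_map, hV,
      Matrix.map_mul]
  refine twist_eq a f _ _ _ (tm j ρ ≫ g) ?_ key
  rw [← Category.assoc (tm j φ'), ← Category.assoc (tm j ψ'), ← tm_comp, ← tm_comp, ← hL, ← hR, hgχ ρ]

/-- A faithfully flat algebra over an affine piece with a point of the torsor. -/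
theorem exists_cover (hloc : NonAbH1.IsLocallyTrivialFor Scheme.fpqcPrecoverage (Over.mk φ.left : Over Y.left))
    (R : CommRingCat.{u}) (j : Spec R ⟶ Y.left) [IsOpenImmersion j] :
    ∃ (B : Type u) (_ : CommRing B) (_ : Algebra R B), Module.FaithfullyFlat R B ∧
      ∃ x₀ : Tp (R := R) j B ⟶ X, x₀ ≫ φ = toY (R := R) j B := by
  obtain ⟨Z, p, hp₁, hp₂, hp₃, s, hs⟩ := SchTorsor.exists_single hloc j
  change s ≫ φ.left = p ≫ j at hs
  haveI : CompactSpace Z := QuasiCompact.compactSpace_of_compactSpace p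
  let 𝒱 := Z.affineCover.finiteSubcover
  haveI : ∀ i, IsAffine (𝒱.X i) := fun i => inferInstanceAs (IsAffine (Z.affineCover.X _))
  let W := ∐ 𝒱.X
  let c : W ⟶ Z := Sigma.desc 𝒱.f
  haveI : Flat c := IsZariskiLocalAtSource.sigmaDesc fun i => inferInstance
  haveI : Surjective c := ⟨fun z => by
    obtain ⟨i, y, hy⟩ := 𝒱.exists_eq z
    refine ⟨Sigma.ι 𝒱.X i y, ?_⟩
    rw [← Scheme.Hom.comp_apply, Sigma.ι_desc]
    exact hy⟩
  let q : Spec Γ(W, ⊤) ⟶ Spec R := W.isoSpec.inv ≫ c ≫ p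
  haveI : Flat q := inferInstance
  haveI : Surjective q := inferInstance
  letI : Algebra R Γ(W, ⊤) := (Spec.preimage q).hom.toAlgebra
  have hq : Spec.map (CommRingCat.ofHom (algebraMap R Γ(W, ⊤))) = q := Spec.map_preimage q
  have hh : (W.isoSpec.inv ≫ c ≫ s) ≫ φ.left = Spec.map (CommRingCat.ofHom (algebraMap R Γ(W, ⊤))) ≫ j := by
    rw [hq, Category.assoc, Category.assoc, hs, Category.assoc, Category.assoc]
  refine ⟨Γ(W, ⊤), inferInstance, inferInstance, ?_, Over.homMk (W.isoSpec.inv ≫ c ≫ s) ?_, Over.OverMorphism.ext hh⟩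
  · refine RingHom.faithfullyFlat_algebraMap_iff.mp
      (RingHom.FaithfullyFlat.iff_flat_and_comap_surjective.mpr ⟨?_, ?_⟩)
    · have : Flat (Spec.map (CommRingCat.ofHom (algebraMap R Γ(W, ⊤)))) := hq ▸ inferInstance
      rwa [HasRingHomProperty.Spec_iff (P := @Flat)] at this
    · have : Surjective (Spec.map (CommRingCat.ofHom (algebraMap R Γ(W, ⊤)))) := hq ▸ inferInstance
      exact this.surj
  · change (W.isoSpec.inv ≫ c ≫ s) ≫ X.hom = (Spec.map _ ≫ j) ≫ Y.hom
    rw [← Over.w φ, ← Category.assoc _ φ.left, hh]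

include hcart in
/-- Torsors under the general linear group are Zariski locally trivial. -/
theorem zariski (hloc : NonAbH1.IsLocallyTrivialFor Scheme.fpqcPrecoverage (Over.mk φ.left : Over Y.left)) :
    NonAbH1.IsLocallyTrivialFor Scheme.zariskiPrecoverage (Over.mk φ.left : Over Y.left) := by
  refine Tors9.isLocallyTrivial_zariski fun s => ?_
  obtain ⟨_, ⟨U, hU, rfl⟩, hs, -⟩ :=
    Y.left.isBasis_affineOpens.exists_subset_of_mem_open (Set.mem_univ s) isOpen_univ
  obtain ⟨B, _, _, hB, x₀, hx₀⟩ := exists_cover φ hloc Γ(Y.left, U) hU.fromSpec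
  let p := hU.primeIdealOf ⟨s, hs⟩
  obtain ⟨r, hr, hsec⟩ := hasSection_near (R := Γ(Y.left, U)) hU.fromSpec a φ hcart x₀ hx₀ p
  refine ⟨_, Spec.map (CommRingCat.ofHom (algebraMap Γ(Y.left, U) (Localization.Away r))) ≫ hU.fromSpec, inferInstance,
    ?_, hsec⟩
  have hp : p ∈ Set.range (PrimeSpectrum.comap (algebraMap Γ(Y.left, U) (Localization.Away r))) := by
    rw [PrimeSpectrum.localization_away_comap_range (Localization.Away r) r]
    exact hr
  obtain ⟨z, hz⟩ := hp
  refine ⟨z, ?_⟩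
  have := hU.fromSpec_primeIdealOf ⟨s, hs⟩
  exact (congrArg hU.fromSpec hz).trans this

end Groth.Agent.GLTors
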